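import Mathlib.AlgebraicGeometry.Morphisms.Flat
import Mathlib.AlgebraicGeometry.IdealSheaf.Functorial
import Mathlib.RingTheory.Flat.Basic
import Mathlib.LinearAlgebra.TensorProduct.Quotient
import Mathlib.RingTheory.TensorProduct.Quotient

/-!
# The scheme-theoretic image commutes with flat base change
-/

universe u

set_option autoImplicit false
set_option backward.isDefEq.respectTransparency.types false

open AlgebraicGeometry CategoryTheory CategoryTheory.Limits
open scoped TensorProduct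

namespace Groth.Agent.FlatKer12

theorem mem_map_ker {R R' A : Type u} [CommRing R] [CommRing R'] [CommRing A] [Algebra R R']
    [Module.Flat R R'] [Algebra R A] (b : R') (h : (1 : A) ⊗ₜ[R] b = 0) :
    b ∈ (RingHom.ker (algebraMap R A)).map (algebraMap R R') := by
  set I := RingHom.ker (algebraMap R A)
  let ι : (R ⧸ I) →ₐ[R] A := Ideal.Quotient.liftₐ I (Algebra.ofId R A) fun a ha => ha
  have hι : Function.Injective ι.toLinearMap :=
    RingHom.lift_injective_of_ker_le_ideal I (fun a ha => ha) (le_of_eq rfl)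
  have h2 : (1 : R ⧸ I) ⊗ₜ[R] b = 0 := by
    apply Module.Flat.rTensor_preserves_injective_linearMap (M := R') ι.toLinearMap hι
    rw [LinearMap.rTensor_tmul, map_zero, AlgHom.toLinearMap_apply, map_one, h]
  have h3 : b ⊗ₜ[R] (1 : R ⧸ I) = 0 := by
    simpa using congrArg (TensorProduct.comm R (R ⧸ I) R') h2
  rw [← Ideal.Quotient.eq_zero_iff_mem]
  apply (Algebra.TensorProduct.quotIdealMapEquivTensorQuot R' I).injective
  rw [map_zero, Algebra.TensorProduct.quotIdealMapEquivTensorQuot_mk, h3]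

theorem mem_map_ker_of_pushout {R R' A : CommRingCat.{u}} (a : R ⟶ A) (φ : R ⟶ R') (hφ : φ.hom.Flat)
    (b : R') (h : pushout.inr a φ b = 0) : b ∈ (RingHom.ker a.hom).map φ.hom := by
  algebraize [a.hom, φ.hom]
  refine mem_map_ker (R := R) (R' := R') (A := A) b ?_
  have hp : IsPushout a φ (CommRingCat.ofHom (Algebra.TensorProduct.includeLeftRingHom : A →+* A ⊗[R] R'))
      (CommRingCat.ofHom ((Algebra.TensorProduct.includeRight : R' →ₐ[R] A ⊗[R] R')).toRingHom) :=
    CommRingCat.isPushout_tensorProduct R A R'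
  have := congrArg hp.isoPushout.inv h
  rwa [map_zero, ← CommRingCat.comp_apply, IsPushout.inr_isoPushout_inv] at this

variable {X Y Y' : Scheme.{u}} (f : X ⟶ Y) (g : Y' ⟶ Y) [QuasiCompact f] [Flat g]

theorem ker_pullback_snd : (pullback.snd f g).ker = f.ker.comap g := by
  refine le_antisymm ?_ ?_
  swap
  · rw [← Scheme.IdealSheafData.le_map_iff_comap_le, ← Scheme.Hom.ker_comp, ← pullback.condition]
    exact Scheme.Hom.le_ker_comp _ _
  choose V hV hyV _ using fun y : Y' =>
    exists_isAffineOpen_mem_and_subset (x := g y) (U := ⊤) trivial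
  choose U hU hyU hUV using fun y : Y' =>
    exists_isAffineOpen_mem_and_subset (x := y) (U := g ⁻¹ᵁ V y) (hyV y)
  refine Scheme.IdealSheafData.le_of_iSup_eq_top (fun y => ⟨U y, hU y⟩)
    (top_le_iff.1 fun y _ => TopologicalSpace.Opens.mem_iSup.2 ⟨y, hyU y⟩) fun y b hb => ?_
  rw [Scheme.Hom.ker_apply, RingHom.mem_ker] at hb
  set J := f.ker.comap g
  have hmono := mono_pushoutSection_of_isCompact_of_flat_right (IsPullback.of_hasPullback f g)
    (hUV y) (le_refl (f ⁻¹ᵁ V y)) rfl (hV y) (hU y) (f.isCompact_preimage (hV y).isCompact)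
  have h0 : pushout.inr (f.appLE (V y) (f ⁻¹ᵁ V y) le_rfl) (g.appLE (V y) (U y) (hUV y)) b = 0 := by
    apply ((ConcreteCategory.mono_iff_injective_of_preservesPullback _).1 hmono)
    rw [map_zero, ← CommRingCat.comp_apply, pushout.inr_desc]
    simp only [Scheme.Hom.appLE, CommRingCat.comp_apply]
    rw [hb, map_zero]
  have hmem := mem_map_ker_of_pushout _ _ (g.flat_appLE (hV y) (hU y) (hUV y)) b h0
  refine (Ideal.map_le_iff_le_comap.2 fun a ha => ?_ : _ ≤ J.ideal ⟨U y, hU y⟩) hmem
  have ha' : a ∈ f.ker.ideal ⟨V y, hV y⟩ := by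
    rw [Scheme.Hom.ker_apply, RingHom.mem_ker]
    simpa [RingHom.mem_ker, Scheme.Hom.app_eq_appLE] using ha
  have h1 : a ∈ (J.subschemeι ≫ g).ker.ideal ⟨V y, hV y⟩ :=
    (Scheme.IdealSheafData.le_map_comap (J := f.ker) (f := g)) ⟨V y, hV y⟩ ha'
  have h2 := Scheme.Hom.ideal_ker_le (J.subschemeι ≫ g) ⟨V y, hV y⟩ h1
  rw [Ideal.mem_comap, ← J.ker_subschemeι, Scheme.Hom.ker_apply, RingHom.mem_ker]
  rw [RingHom.mem_ker, Scheme.Hom.comp_app] at h2
  change J.subschemeι.app (g ⁻¹ᵁ V y) (g.app (V y) a) = 0 at h2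
  change J.subschemeι.app (U y) (Y'.presheaf.map (homOfLE (hUV y)).op (g.app (V y) a)) = 0
  rw [← CommRingCat.comp_apply, Scheme.Hom.naturality, CommRingCat.comp_apply, h2, map_zero]

end Groth.Agent.FlatKer12
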